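import Cfsg.Agent.H613.KKL.Defs
import Cfsg.Agent.Cit.HexSL
import Cfsg.Agent.Cit.HexInv
import Cfsg.Agent.Cit.HexD4
import Cfsg.Agent.Cit.HexG2

/-!
# S4546: no configuration in `G₂(q)`, `³D₄(q)`, `q` odd (helper486)

`C(z) = K₁ K₄ T₀`, `|C(z) : K₁ K₄| = 2`, `K₁ = SL₂(q³)` (`SL₂(q)` in `G₂(q)`), `K₄ = SL₂(q)`. With `z ∈ D`:
`x ∈ K₁ K₄`, and for `d = d₁ d₂ ∈ D ∩ K₁ K₄` the element `d₁` commutes with `x`, so it has no order `4` and
`D ∩ K₁ K₄ = ⟨z⟩`; `|D| ≤ 4`.

* `abs_false` : the abstract argument;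
* `nocfg_hex` : `HexGrp`, `q` odd;
* `E_G2`, `E_3D4`.
-/

set_option autoImplicit false

namespace Cfsg.Agent.H486.KKL

open Cfsg Cfsg.Agent.H613.KKL

universe u

section abs

variable {S : Type*} [Group S] {D : Subgroup S} {x z : S} {K1 K4 : Subgroup S}

/-- **The abstract argument.** -/
theorem abs_false (h8 : E8 D) (ho : Odd (orderOf x)) (hc : ∀ d ∈ D, d * x = x * d)
    (hsyl : ∀ Q : Subgroup S, IsPGroup 2 Q → (∀ q ∈ Q, q * x = x * q) →
      ∃ c : S, c * x = x * c ∧ ∀ q ∈ Q, c * q * c⁻¹ ∈ D)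
    (hz : z ∈ D) (hz1 : z ≠ 1) (h14 : ∀ a ∈ K1, ∀ b ∈ K4, a * b = b * a) (z1 : z ∈ K1) (z4 : z ∈ K4)
    (hinf : ∀ a, a ∈ K1 → a ∈ K4 → a = 1 ∨ a = z)
    (sq1 : ∀ a ∈ K1, a * a = 1 → a = 1 ∨ a = z) (sq4 : ∀ a ∈ K4, a * a = 1 → a = 1 ∨ a = z)
    (hidx : ∀ c c' : S, c * z = z * c → c' * z = z * c' → (∃ a ∈ K1, ∃ b ∈ K4, c = a * b) ∨
      (∃ a ∈ K1, ∃ b ∈ K4, c' = a * b) ∨ (∃ a ∈ K1, ∃ b ∈ K4, c * c' = a * b)) : False := by
  have hzz : z * z = 1 := h8.inv z hz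
  -- products
  have hmul : ∀ c c' : S, (∃ a ∈ K1, ∃ b ∈ K4, c = a * b) → (∃ a ∈ K1, ∃ b ∈ K4, c' = a * b) →
      ∃ a ∈ K1, ∃ b ∈ K4, c * c' = a * b := by
    rintro _ _ ⟨a, ha, b, hb, rfl⟩ ⟨a', ha', b', hb', rfl⟩
    refine ⟨a * a', mul_mem ha ha', b * b', mul_mem hb hb', ?_⟩
    calc a * b * (a' * b') = a * (b * a') * b' := by group
      _ = a * (a' * b) * b' := by rw [h14 a' ha' b hb]
      _ = a * a' * (b * b') := by group
  -- `D` is abelian
  have hab : ∀ d ∈ D, ∀ e ∈ D, d * e = e * d := by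
    intro d hd e he
    have h1 := h8.inv (d * e) (mul_mem hd he)
    have h2 := h8.inv d hd
    have h3 := h8.inv e he
    calc d * e = d * e * ((e * e) * (d * d)) := by rw [h2, h3]; group
      _ = d * (e * e) * (e * d) * d := by group
      _ = d * (e * d) * d := by rw [h3, mul_one]
      _ = (d * e * (d * e)) * (e⁻¹) * d := by group
      _ = e * d := by rw [h1, one_mul, inv_eq_of_mul_eq_one_right h3]
  -- `x` is in `K₁ K₄`
  obtain ⟨n, hn, hxn⟩ : ∃ n, Odd n ∧ x ^ n = 1 := ⟨_, ho, pow_orderOf_eq_one x⟩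
  obtain ⟨k, hk⟩ := hn
  have hxz : x * z = z * x := (hc z hz).symm
  have hxM : ∃ a ∈ K1, ∃ b ∈ K4, x = a * b := by
    have hpow : ∀ g : S, (∃ a ∈ K1, ∃ b ∈ K4, g = a * b) → ∀ m : ℕ, ∃ a ∈ K1, ∃ b ∈ K4, g ^ m = a * b := by
      intro g hg m
      induction m with
      | zero => exact ⟨1, one_mem _, 1, one_mem _, by simp⟩
      | succ m ih => rw [pow_succ]; exact hmul _ _ ih hg
    rcases hidx x x hxz hxz with h | h | h
    · exact h
    · exact h
    · have h1 : x = (x * x) ^ (k + 1) := by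
        rw [← sq, ← pow_mul, show 2 * (k + 1) = n + 1 by omega, pow_succ, hxn, one_mul]
      rw [h1]
      exact hpow _ h _
  -- odd order of the factors
  have zpow : z ^ n = z := by
    rw [hk, pow_succ, pow_mul, sq, hzz, one_pow, one_mul]
  obtain ⟨x1, hx1, x2, hx2, hx, hxo⟩ : ∃ x1 ∈ K1, ∃ x2 ∈ K4, x = x1 * x2 ∧ x1 ^ n = 1 := by
    obtain ⟨a, ha, b, hb, hab'⟩ := hxM
    have h1 : a ^ n * b ^ n = 1 := by
      rw [← hxn, hab']
      exact ((show Commute a b from h14 a ha b hb).mul_pow n).symm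
    have h2 : a ^ n ∈ K4 := by
      rw [eq_inv_of_mul_eq_one_left h1]
      exact inv_mem (pow_mem hb n)
    rcases hinf _ (pow_mem ha n) h2 with h3 | h3
    · exact ⟨a, ha, b, hb, hab', h3⟩
    · refine ⟨a * z, mul_mem ha z1, z * b, mul_mem z4 hb, ?_, ?_⟩
      · calc x = a * b := hab'
          _ = a * (z * z) * b := by rw [hzz, mul_one]
          _ = a * z * (z * b) := by group
      · rw [(show Commute a z from h14 a ha z z4).mul_pow, h3, zpow, hzz]
  -- the intersection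
  have key : ∀ d ∈ D, (∃ a ∈ K1, ∃ b ∈ K4, d = a * b) → d = 1 ∨ d = z := by
    rintro d hd ⟨a, ha, b, hb, rfl⟩
    have hax : a * x1 = x1 * a := by
      have h1 : a * b * (x1 * x2) = x1 * x2 * (a * b) := by rw [← hx]; exact hc _ hd
      have h2 : (x1 * a)⁻¹ * (a * x1) = (x2 * b) * (b * x2)⁻¹ := by
        rw [inv_mul_eq_iff_eq_mul, ← mul_assoc, eq_mul_inv_iff_mul_eq]
        calc a * x1 * (b * x2) = a * (x1 * b) * x2 := by group
          _ = a * (b * x1) * x2 := by rw [h14 x1 hx1 b hb]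
          _ = a * b * (x1 * x2) := by group
          _ = x1 * x2 * (a * b) := h1
          _ = x1 * (x2 * a) * b := by group
          _ = x1 * (a * x2) * b := by rw [h14 a ha x2 hx2]
          _ = x1 * a * (x2 * b) := by group
      have h3 : (x1 * a)⁻¹ * (a * x1) ∈ K1 := mul_mem (inv_mem (mul_mem hx1 ha)) (mul_mem ha hx1)
      have h4 : (x1 * a)⁻¹ * (a * x1) ∈ K4 := by
        rw [h2]; exact mul_mem (mul_mem hx2 hb) (inv_mem (mul_mem hb hx2))
      rcases hinf _ h3 h4 with h5 | h5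
      · exact (inv_mul_eq_one.1 h5).symm
      · exfalso
        have h6 : a * x1 * a⁻¹ = x1 * z := by
          rw [mul_inv_eq_iff_eq_mul]
          rw [inv_mul_eq_iff_eq_mul] at h5
          rw [h5, mul_assoc, mul_assoc, h14 a ha z z4]
        have h7 : (a * x1 * a⁻¹) ^ n = a * x1 ^ n * a⁻¹ := by
          have := map_pow (MulAut.conj a) x1 n
          rw [MulAut.conj_apply, MulAut.conj_apply] at this
          exact this.symm
        rw [h6, (show Commute x1 z from h14 x1 hx1 z z4).mul_pow, hxo, zpow] at h7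
        exact hz1 (by rw [one_mul] at h7; rw [h7]; group)
    have hax' : a * x = x * a := by
      rw [hx]
      calc a * (x1 * x2) = (a * x1) * x2 := by group
        _ = x1 * (a * x2) := by rw [hax]; group
        _ = x1 * (x2 * a) := by rw [h14 a ha x2 hx2]
        _ = x1 * x2 * a := by group
    have hsq : (a * a) * (b * b) = 1 := by
      have h1 := h8.inv _ hd
      calc (a * a) * (b * b) = a * (a * b) * b := by group
        _ = a * (b * a) * b := by rw [h14 a ha b hb]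
        _ = a * b * (a * b) := by group
        _ = 1 := h1
    have h2 : a * a ∈ K4 := by
      rw [eq_inv_of_mul_eq_one_left hsq]
      exact inv_mem (mul_mem hb hb)
    rcases hinf _ (mul_mem ha ha) h2 with h3 | h3
    · rw [h3, one_mul] at hsq
      rcases sq1 a ha h3 with rfl | rfl <;> rcases sq4 b hb hsq with rfl | rfl
      · left; rw [one_mul]
      · right; rw [one_mul]
      · right; rw [mul_one]
      · left; exact hzz
    · exfalso
      have h4 : a ^ 4 = 1 := by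
        rw [show (4 : ℕ) = 2 + 2 from rfl, pow_add, sq, h3, hzz]
      obtain ⟨c, -, hcc⟩ := hsyl (Subgroup.zpowers a)
        (IsPGroup.of_card_dvd_pow (n := 2) (by
          rw [Nat.card_zpowers]
          exact orderOf_dvd_of_pow_eq_one h4)) (fun g hg => by
          obtain ⟨i, rfl⟩ := hg
          exact ((show Commute a x from hax').zpow_left i).eq)
      have h5 := h8.inv _ (hcc a (Subgroup.mem_zpowers a))
      have h6 : c * a * c⁻¹ * (c * a * c⁻¹) = c * (a * a) * c⁻¹ := by group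
      rw [h6, h3] at h5
      exact hz1 (by
        have := congrArg (fun g => c⁻¹ * g * c) h5
        simpa [mul_assoc] using this)
  -- the order
  have hD : ∃ d0 : S, (D : Set S) ⊆ {1, z, d0, d0 * z} := by
    by_cases hall : ∀ d ∈ D, ∃ a ∈ K1, ∃ b ∈ K4, d = a * b
    · refine ⟨1, fun d hd => ?_⟩
      rcases key d hd (hall d hd) with rfl | rfl <;> simp
    · push Not at hall
      obtain ⟨d0, hd0, hn0⟩ := hall
      refine ⟨d0, fun d hd => ?_⟩
      rcases hidx d0 d (hab d0 hd0 z hz) (hab d hd z hz) with ⟨a, ha, b, hb, h⟩ | h | h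
      · exact absurd h (hn0 a ha b hb)
      · rcases key d hd h with rfl | rfl <;> simp
      · have hinv : d0⁻¹ = d0 := inv_eq_of_mul_eq_one_right (h8.inv d0 hd0)
        rcases key _ (mul_mem hd0 hd) h with h1 | h1
        · have : d = d0 := by rw [← hinv]; exact (inv_eq_of_mul_eq_one_right h1).symm
          rw [this]; simp
        · have : d = d0 * z := by rw [← h1, ← mul_assoc, h8.inv d0 hd0, one_mul]
          rw [this]; simp
  obtain ⟨d0, hsub⟩ := hD
  have h1 : (D : Set S).ncard ≤ ({1, z, d0, d0 * z} : Set S).ncard := Set.ncard_le_ncard hsub (Set.toFinite _)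
  have h2 : ({1, z, d0, d0 * z} : Set S).ncard ≤ 4 := by
    refine (Set.ncard_insert_le _ _).trans (Nat.succ_le_succ ?_)
    refine (Set.ncard_insert_le _ _).trans (Nat.succ_le_succ ?_)
    refine (Set.ncard_insert_le _ _).trans (Nat.succ_le_succ ?_)
    rw [Set.ncard_singleton]
  have h3 : (D : Set S).ncard = 8 := h8.card
  omega

end abs

section hex

open Cfsg.Agent.Cit.HexBase Cfsg.Agent.Lib.SL2Mat

variable {E : Type*} [Field E] [Finite E] {σ : E ≃+* E} {L : Type*} [Group L] (c : HexGrp σ L)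

/-- the nonsquares of a finite field -/
theorem nsq_mul {K : Type*} [Field K] [Finite K] (a b : K) (ha0 : a ≠ 0) (hb0 : b ≠ 0) (ha : ¬ IsSquare a)
    (hb : ¬ IsSquare b) : IsSquare (a * b) := by
  classical
  have := Fintype.ofFinite K
  have h2 : ringChar K ≠ 2 := fun h => ha (FiniteField.isSquare_of_char_two h a)
  have h3 := quadraticChar_neg_one_iff_not_isSquare.2 ha
  have h4 := quadraticChar_neg_one_iff_not_isSquare.2 hb
  rw [← quadraticChar_one_iff_isSquare (mul_ne_zero ha0 hb0), map_mul, h3, h4]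
  norm_num

/-- the index of `K₁ K₄` in `C(z)` is at most two -/
theorem idx (h2 : (2 : E) ≠ 0) (g g' : L) (hg : g * c.z = c.z * g) (hg' : g' * c.z = c.z * g') :
    (∃ a ∈ c.K1, ∃ b ∈ c.K4, g = a * b) ∨ (∃ a ∈ c.K1, ∃ b ∈ c.K4, g' = a * b) ∨
      (∃ a ∈ c.K1, ∃ b ∈ c.K4, g * g' = a * b) := by
  obtain ⟨u, v, t, ht, rfl⟩ := c.mem_CZ_form h2 hg
  obtain ⟨u', v', t', ht', rfl⟩ := c.mem_CZ_form h2 hg'
  have hsq : ∀ (w : ↥(fx σ)) (hw : w ≠ 0), IsSquare w → ∃ (a : SL2 E) (b : SL2 ↥(fx σ)),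
      c.pa (dg w hw) = c.pb a * c.p4 b := by
    intro w hw hws
    obtain ⟨r, hr⟩ := hws
    have hr0 : r ≠ 0 := by
      rintro rfl
      exact hw (by rw [hr, mul_zero])
    have hr2 : w = r ^ 2 := by rw [hr, sq]
    subst hr2
    refine ⟨(dg (r : E) fun h => hr0 (Subtype.ext h))⁻¹, dg r hr0, (c.pa_dg_sq r hr0).trans ?_⟩
    rw [map_inv]
  by_cases h1 : IsSquare t
  · left
    obtain ⟨a, b, h⟩ := hsq t ht h1
    refine ⟨c.pb (u * a), ⟨_, rfl⟩, c.p4 (v * b), ⟨_, rfl⟩, ?_⟩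
    rw [h, map_mul, map_mul]
    calc c.pb u * c.p4 v * (c.pb a * c.p4 b) = c.pb u * (c.p4 v * c.pb a) * c.p4 b := by group
      _ = c.pb u * (c.pb a * c.p4 v) * c.p4 b := by rw [c.comm_pb_p4]
      _ = _ := by group
  · by_cases h1' : IsSquare t'
    · right; left
      obtain ⟨a, b, h⟩ := hsq t' ht' h1'
      refine ⟨c.pb (u' * a), ⟨_, rfl⟩, c.p4 (v' * b), ⟨_, rfl⟩, ?_⟩
      rw [h, map_mul, map_mul]
      calc c.pb u' * c.p4 v' * (c.pb a * c.p4 b) = c.pb u' * (c.p4 v' * c.pb a) * c.p4 b := by group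
        _ = c.pb u' * (c.pb a * c.p4 v') * c.p4 b := by rw [c.comm_pb_p4]
        _ = _ := by group
    · right; right
      obtain ⟨a, b, h⟩ := hsq (t * t') (mul_ne_zero ht ht') (nsq_mul t t' ht ht' h1 h1')
      obtain ⟨u2, e1⟩ : ∃ u2, c.pa (dg t ht) * c.pb u' = c.pb u2 * c.pa (dg t ht) :=
        ⟨_, mul_inv_eq_iff_eq_mul.1 (c.pa_dg_pb t ht u')⟩
      obtain ⟨v2, e2⟩ : ∃ v2, c.pa (dg t ht) * c.p4 v' = c.p4 v2 * c.pa (dg t ht) :=
        ⟨_, mul_inv_eq_iff_eq_mul.1 (c.pa_dg_p4 h2 t ht v')⟩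
      have e3 : c.pa (dg t ht) * c.pa (dg t' ht') = c.pb a * c.p4 b := by
        rw [← h, ← map_mul, dg_mul_dg]
      refine ⟨c.pb (u * u2 * a), ⟨_, rfl⟩, c.p4 (v * v2 * b), ⟨_, rfl⟩, ?_⟩
      have k1 := c.comm_pb_p4 u2 v
      have k2 := c.comm_pb_p4 a (v * v2)
      rw [map_mul] at k2
      rw [map_mul, map_mul, map_mul, map_mul]
      calc c.pb u * c.p4 v * c.pa (dg t ht) * (c.pb u' * c.p4 v' * c.pa (dg t' ht'))
          = c.pb u * c.p4 v * (c.pa (dg t ht) * c.pb u') * c.p4 v' * c.pa (dg t' ht') := by group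
        _ = c.pb u * c.p4 v * c.pb u2 * (c.pa (dg t ht) * c.p4 v') * c.pa (dg t' ht') := by rw [e1]; group
        _ = c.pb u * (c.p4 v * c.pb u2) * c.p4 v2 * (c.pa (dg t ht) * c.pa (dg t' ht')) := by rw [e2]; group
        _ = c.pb u * (c.pb u2 * c.p4 v) * c.p4 v2 * (c.pb a * c.p4 b) := by rw [k1, e3]
        _ = c.pb u * c.pb u2 * (c.p4 v * c.p4 v2 * c.pb a) * c.p4 b := by group
        _ = c.pb u * c.pb u2 * (c.pb a * (c.p4 v * c.p4 v2)) * c.p4 b := by rw [k2]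
        _ = c.pb u * c.pb u2 * c.pb a * (c.p4 v * c.p4 v2 * c.p4 b) := by group

include c in
/-- **No configuration in the groups of hexagons of odd characteristic.** -/
theorem nocfg_hex (h2 : (2 : E) ≠ 0) [Finite L] : NoCfg L := by
  intro D x hc
  -- an involution of `D`
  obtain ⟨t, ht, ht1⟩ : ∃ t ∈ D, t ≠ 1 := by
    by_contra hcon
    push Not at hcon
    have h1 : D = ⊥ := (Subgroup.eq_bot_iff_forall D).2 hcon
    have h3 := hc.e8.card
    rw [h1, Subgroup.card_bot] at h3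
    omega
  obtain ⟨g, hg⟩ := isConj_iff.1 (c.isConj_z h2 (hc.e8.inv t ht) ht1)
  let e := MulAut.conj g
  have hmem : ∀ d, d ∈ D.map e.toMonoidHom ↔ g⁻¹ * d * g ∈ D := by
    intro d
    constructor
    · rintro ⟨d', hd', rfl⟩
      have : g⁻¹ * (g * d' * g⁻¹) * g = d' := by group
      change g⁻¹ * (g * d' * g⁻¹) * g ∈ D
      rw [this]; exact hd'
    · intro h
      refine ⟨_, h, ?_⟩
      change g * (g⁻¹ * d * g) * g⁻¹ = d
      group
  refine abs_false (D := D.map e.toMonoidHom) (x := g * x * g⁻¹) (z := c.z) (K1 := c.K1) (K4 := c.K4)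
    ⟨?_, ?_⟩ ?_ ?_ ?_ ?_ (c.z_ne h2) (fun a ha b hb => c.comm14 ha hb) c.z_mem_K1 c.z_mem_K4
    (fun a h1 h4 => c.eq_of_mem_inf h2 h1 h4) ?_ ?_ (idx c h2)
  · rw [Subgroup.card_map_of_injective e.injective]
    exact hc.e8.card
  · intro d hd
    have h1 := hc.e8.inv _ ((hmem d).1 hd)
    have h3 : g⁻¹ * d * g * (g⁻¹ * d * g) = g⁻¹ * (d * d) * g := by group
    rw [h3] at h1
    have := congrArg (fun y => g * y * g⁻¹) h1
    simpa [mul_assoc] using this
  · have h1 : orderOf (g * x * g⁻¹) = orderOf x := by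
      have := orderOf_injective e.toMonoidHom e.injective x
      exact this
    rw [h1]
    exact hc.odd
  · intro d hd
    have h1 := hc.comm _ ((hmem d).1 hd)
    calc d * (g * x * g⁻¹) = g * (g⁻¹ * d * g * x) * g⁻¹ := by group
      _ = g * (x * (g⁻¹ * d * g)) * g⁻¹ := by rw [h1]
      _ = _ := by group
  · intro Q hQ hq
    obtain ⟨k, hk, hk'⟩ := hc.syl (Q.map (MulAut.conj g⁻¹).toMonoidHom) (hQ.map _) (by
      rintro _ ⟨q, hqQ, rfl⟩
      have h1 := hq q hqQ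
      change g⁻¹ * q * g⁻¹⁻¹ * x = x * (g⁻¹ * q * g⁻¹⁻¹)
      calc g⁻¹ * q * g⁻¹⁻¹ * x = g⁻¹ * (q * (g * x * g⁻¹)) * g := by group
        _ = g⁻¹ * (g * x * g⁻¹ * q) * g := by rw [h1]
        _ = _ := by group)
    refine ⟨g * k * g⁻¹, ?_, fun q hqQ => (hmem _).2 ?_⟩
    · calc g * k * g⁻¹ * (g * x * g⁻¹) = g * (k * x) * g⁻¹ := by group
        _ = g * (x * k) * g⁻¹ := by rw [hk]
        _ = _ := by group
    · have h1 := hk' _ ⟨q, hqQ, rfl⟩
      change k * (g⁻¹ * q * g⁻¹⁻¹) * k⁻¹ ∈ D at h1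
      have h3 : g⁻¹ * (g * k * g⁻¹ * q * (g * k * g⁻¹)⁻¹) * g = k * (g⁻¹ * q * g⁻¹⁻¹) * k⁻¹ := by group
      rw [h3]; exact h1
  · rw [← hg]
    exact ⟨t, ht, rfl⟩
  · rintro _ ⟨a, rfl⟩ h
    exact c.pb_sq h2 h
  · rintro _ ⟨a, rfl⟩ h
    exact c.p4_sq h2 h

end hex

section rows

variable {F : Type} [Field F] [Fintype F] {p : ℕ} [Fact p.Prime] [CharP F p] (hp : p ≠ 2)
include hp

omit [Fintype F] in
theorem two_ne : (2 : F) ≠ 0 := by
  intro h
  have h1 : ((2 : ℕ) : F) = 0 := by exact_mod_cast h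
  exact hp ((Nat.prime_dvd_prime_iff_eq (Fact.out : p.Prime) Nat.prime_two).1 ((CharP.cast_eq_zero_iff F p 2).1 h1))

theorem E_G2 : NoCfg ↥(Lie.chevG2.group F) :=
  nocfg_hex (Cit.HexG2.g2 F (two_ne hp)) (two_ne hp)

theorem E_3D4 (q : ℕ) (hq : Fintype.card F = q ^ 3) : NoCfg (Lie.twistedD4 F q) := by
  obtain ⟨σ, -, ⟨c⟩⟩ := Cit.HexD4.exists_d4 hq
  exact nocfg_hex c (two_ne hp)

end rows

end Cfsg.Agent.H486.KKL
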